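import Groth.Agent.ArtinVan.Main
import Groth.Agent.EtBC.EtaleBC

/-!
# Stalks of higher direct images along affine morphisms of schemes of finite type over a field
-/

set_option autoImplicit false
set_option linter.style.haveILetI false
set_option backward.isDefEq.respectTransparency false
set_option backward.isDefEq.respectTransparency.types false
set_option maxHeartbeats 1000000

universe u

open CategoryTheory CategoryTheory.Limits AlgebraicGeometry Opposite

namespace Groth.Agent.ArtinVan

open Groth.Agent.EtFound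

variable {k : Type u} [Field k]

/-- The stalks of a direct image by a closed immersion above the degree of the support. -/
theorem supp_push_closed_deg_le {X Z : Scheme.{u}} (i : X ⟶ Z) [IsClosedImmersion i]
    (g : Z ⟶ Spec (CommRingCat.of k)) [LocallyOfFiniteType g] (F : EtCoh.Ab X) {a : ℕ}
    (hs : ∀ x ∈ EtPBC.supp F, VarDim.deg (i ≫ g) x ≤ a) :
    ∀ z ∈ EtPBC.supp ((EtCoh.push i).obj F), VarDim.deg g z ≤ a := fun z hz => by
  obtain ⟨x, hx, rfl⟩ := exists_of_mem_supp_push_closed i F hz
  exact (VarDim.deg_map_le i g (p := i ≫ g) rfl x).trans (hs x hx)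

/-- Removing a closed immersion from the front of a composite. -/
theorem isZero_stalk_Rpush_closed_comp {X Z Y : Scheme.{u}} (i : X ⟶ Z) [IsClosedImmersion i] (h : Z ⟶ Y)
    {Ω : Type u} [Field Ω] [IsSepClosed Ω] (ξ : Spec (CommRingCat.of Ω) ⟶ Y) (F : EtCoh.Ab X) (q : ℕ)
    (hz : IsZero ((EtCoh.stalk ξ).obj ((EtCoh.Rpush h q).obj ((EtCoh.push i).obj F)))) :
    IsZero ((EtCoh.stalk ξ).obj ((EtCoh.Rpush (i ≫ h) q).obj F)) := by
  haveI := push_preservesFiniteLimits i
  haveI := push_preservesFiniteColimits i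
  haveI := push_preservesFiniteLimits h
  haveI : (EtCoh.push i).Additive := (EtCoh.pullPushAdj i).right_adjoint_additive
  haveI : (EtCoh.push h).Additive := (EtCoh.pullPushAdj h).right_adjoint_additive
  haveI : (EtCoh.stalk ξ).Additive := Functor.additive_of_preserves_binary_products _
  refine isZero_stalk_Rpush_comp i h ξ F q fun c d hcd => ?_
  cases d with
  | zero =>
    obtain rfl : c = q := by omega
    exact hz.of_iso ((EtCoh.stalk ξ).mapIso
      ((EtCoh.Rpush h c).mapIso ((EtCoh.push i).rightDerivedZeroIsoSelf.app F)))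
  | succ d =>
    refine (EtCoh.stalk ξ).map_isZero ?_
    exact ((EtCoh.push h).rightDerived c).map_isZero (LerayDegen.isZero_rightDerived_of_exact (EtCoh.push i) F d)

variable {A : Type u} [CommRing A] [Algebra k A] [Algebra.FiniteType k A]

local notation "gA" => Spec.map (CommRingCat.ofHom (algebraMap k A))
local notation "hN" N:max => Spec.map (CommRingCat.ofHom (MvPolynomial.C (σ := Fin N) (R := A)))

/-- The projections of affine spaces. -/
theorem isZero_stalk_Rpush_space {Ω : Type u} [Field Ω] [IsSepClosed Ω]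
    (ξ : Spec (CommRingCat.of Ω) ⟶ Spec (CommRingCat.of A)) {y : Spec (CommRingCat.of A)}
    (hξ : ξ.base (default : Spec (CommRingCat.of Ω)) = y) : ∀ (N : ℕ)
      (G : EtCoh.Ab (Spec (CommRingCat.of (MvPolynomial (Fin N) A)))), EtCoh.IsTorsion G → ∀ a : ℕ,
      (∀ x ∈ EtPBC.supp G, VarDim.deg ((hN N) ≫ gA) x ≤ a) → ∀ q : ℕ, a < q + VarDim.deg gA y →
        IsZero ((EtCoh.stalk ξ).obj ((EtCoh.Rpush (hN N) q).obj G)) := by
  haveI : LocallyOfFiniteType gA := (HasRingHomProperty.Spec_iff (P := @LocallyOfFiniteType)).2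
    (RingHom.finiteType_algebraMap.2 inferInstance)
  intro N
  induction N with
  | zero =>
    intro G _ a hs q hq
    haveI : IsIso (hN 0) := by
      haveI : IsIso (CommRingCat.ofHom (MvPolynomial.C (σ := Fin 0) (R := A))) :=
        (ConcreteCategory.isIso_iff_bijective _).2
          ⟨MvPolynomial.C_injective _ _, MvPolynomial.C_surjective _⟩
      infer_instance
    haveI := push_preservesFiniteLimits (hN 0)
    haveI := push_preservesFiniteColimits (hN 0)
    haveI : (EtCoh.push (hN 0)).Additive := (EtCoh.pullPushAdj (hN 0)).right_adjoint_additive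
    haveI : (EtCoh.stalk ξ).Additive := Functor.additive_of_preserves_binary_products _
    cases q with
    | succ q => exact (EtCoh.stalk ξ).map_isZero (LerayDegen.isZero_rightDerived_of_exact (EtCoh.push (hN 0)) G q)
    | zero =>
      refine IsZero.of_iso ?_ ((EtCoh.stalk ξ).mapIso ((EtCoh.push (hN 0)).rightDerivedZeroIsoSelf.app G))
      refine CdFin.isZero_stalk_of_notMem_supp ξ fun h => ?_
      have h1 := supp_push_closed_deg_le (hN 0) gA G hs _ h
      rw [hξ] at h1
      omega
  | succ N IH =>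
    intro G hG a hs q hq
    let AN := MvPolynomial (Fin N) A
    haveI : Algebra.FiniteType k AN := Algebra.FiniteType.trans (inferInstance : Algebra.FiniteType k A) inferInstance
    let e := MvPolynomial.finSuccEquiv A N
    let ψ := Spec.map e.symm.toRingEquiv.toCommRingCatIso.hom
    let p := Spec.map (CommRingCat.ofHom (Polynomial.C (R := AN)))
    haveI : IsIso ψ := inferInstance
    have hψ : ψ ≫ p ≫ (hN N) = (hN (N + 1)) := by
      show Spec.map _ ≫ Spec.map _ ≫ Spec.map _ = Spec.map _
      rw [← Spec.map_comp, ← Spec.map_comp]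
      exact congrArg Spec.map (CommRingCat.hom_ext (RingHom.ext fun c => e.symm.commutes c))
    haveI : LocallyOfFiniteType p := (HasRingHomProperty.Spec_iff (P := @LocallyOfFiniteType)).2
      (RingHom.finiteType_algebraMap.2 (inferInstance : Algebra.FiniteType AN (Polynomial AN)))
    haveI : LocallyOfFiniteType (hN N) := (HasRingHomProperty.Spec_iff (P := @LocallyOfFiniteType)).2
      (RingHom.finiteType_algebraMap.2 (inferInstance : Algebra.FiniteType A AN))
    have hgN : (hN N) ≫ gA = Spec.map (CommRingCat.ofHom (algebraMap k AN)) := (Spec.map_comp _ _).symm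
    haveI : LocallyOfFiniteType (Spec.map (CommRingCat.ofHom (algebraMap k AN))) :=
      (HasRingHomProperty.Spec_iff (P := @LocallyOfFiniteType)).2 (RingHom.finiteType_algebraMap.2 inferInstance)
    rw [← hψ]
    refine isZero_stalk_Rpush_closed_comp ψ (p ≫ (hN N)) ξ G q ?_
    have hT : EtCoh.IsTorsion ((EtCoh.push ψ).obj G) := by
      haveI := push_preservesFiniteLimits ψ
      haveI : (EtCoh.push ψ).Additive := (EtCoh.pullPushAdj ψ).right_adjoint_additive
      exact EtFound.isTorsion_of_iso ((EtCoh.push ψ).rightDerivedZeroIsoSelf.app G)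
        (EtFound.isTorsion_Rpush ψ hG 0)
    have hs' := supp_push_closed_deg_le ψ (p ≫ Spec.map (CommRingCat.ofHom (algebraMap k AN))) G (a := a) fun x hx => by
      have h2 : ψ ≫ p ≫ Spec.map (CommRingCat.ofHom (algebraMap k AN)) = (hN (N + 1)) ≫ gA := by
        rw [← hψ, ← hgN, Category.assoc, Category.assoc]
      rw [VarDim.deg_congr h2]
      exact hs x hx
    refine isZero_stalk_Rpush_comp p (hN N) ξ _ q fun c d hcd => ?_
    have hsupp : ∀ z ∈ EtPBC.supp ((EtCoh.Rpush p d).obj ((EtCoh.push ψ).obj G)),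
        d + VarDim.deg ((hN N) ≫ gA) z ≤ a := by
      intro z hz
      obtain ⟨K, _, _, η, hr, hne⟩ := hz
      have hη : η.base (default : Spec (CommRingCat.of K)) = z := Set.mem_singleton_iff.1 (hr ▸ ⟨_, rfl⟩)
      rw [VarDim.deg_congr hgN]
      by_contra hlt
      exact hne (isZero_stalk_Rpush_line (k := k) (A := AN) _ hT hs' (fun a' _ => vanAt a') η hη (by omega))
    by_cases hd : d ≤ a
    · exact IH _ (EtFound.isTorsion_Rpush p hT d) (a - d) (fun z hz => by have := hsupp z hz; omega) c (by omega)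
    · haveI := push_preservesFiniteLimits (hN N)
      haveI : (EtCoh.push (hN N)).Additive := (EtCoh.pullPushAdj (hN N)).right_adjoint_additive
      haveI : (EtCoh.stalk ξ).Additive := Functor.additive_of_preserves_binary_products _
      refine (EtCoh.stalk ξ).map_isZero (((EtCoh.push (hN N)).rightDerived c).map_isZero
        (CdFin.isZero_of_supp_subset_empty fun z hz => ?_))
      have := hsupp z hz
      omega

omit [Algebra k A] [Algebra.FiniteType k A] in
/-- **Stalks of higher direct images along affine morphisms.** -/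
theorem isZero_stalk_Rpush_affine {X Y : Scheme.{u}} (f : X ⟶ Y) [IsAffineHom f] [LocallyOfFiniteType f]
    (g : Y ⟶ Spec (CommRingCat.of k)) [LocallyOfFiniteType g] (F : EtCoh.Ab X) (hF : EtCoh.IsTorsion F) {a : ℕ}
    (hs : ∀ x ∈ EtPBC.supp F, VarDim.deg (f ≫ g) x ≤ a)
    {Ω : Type u} [Field Ω] [IsSepClosed Ω] (ξ : Spec (CommRingCat.of Ω) ⟶ Y) {y : Y}
    (hξ : ξ.base (default : Spec (CommRingCat.of Ω)) = y) {q : ℕ} (hq : a < q + VarDim.deg g y) :
    IsZero ((EtCoh.stalk ξ).obj ((EtCoh.Rpush f q).obj F)) := by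
  obtain ⟨V, hV, hyV, -⟩ := exists_isAffineOpen_mem_and_subset (x := y) (U := ⊤) trivial
  let j := hV.fromSpec
  haveI : AlgebraicGeometry.Etale j := inferInstance
  let π := pullback.fst f j
  let f' := pullback.snd f j
  have hP : IsPullback π f' f j := IsPullback.of_hasPullback f j
  haveI : IsOpenImmersion π := MorphismProperty.pullback_fst _ _ inferInstance
  haveI : IsAffineHom f' := MorphismProperty.pullback_snd _ _ inferInstance
  haveI : LocallyOfFiniteType f' := MorphismProperty.pullback_snd _ _ inferInstance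
  haveI : IsAffine (pullback f j) := isAffine_of_isAffineHom f'
  haveI := pull_preservesFiniteLimits π
  have hξV : Set.range ξ.base ⊆ Set.range j.base := by
    rw [range_point ξ, hξ, hV.range_fromSpec]
    exact Set.singleton_subset_iff.2 hyV
  let ξ' := IsOpenImmersion.lift j ξ hξV
  have hξ' : ξ' ≫ j = ξ := IsOpenImmersion.lift_fac j ξ hξV
  haveI := EtBC.isIso_bcQ_etale hP q F
  rw [← hξ']
  refine IsZero.of_iso ?_ ((sheafFiberPullIso (A := AddCommGrpCat.{u + 1}) j ξ').app _).symm
  refine IsZero.of_iso ?_ ((EtCoh.stalk ξ').mapIso (asIso (EtBC.bcQ f j f' π hP.w q F)))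
  -- the affine case
  let φ0 : CommRingCat.of k ⟶ Γ(Y, V) := Spec.preimage (j ≫ g)
  have hφ0 : Spec.map φ0 = j ≫ g := Spec.map_preimage _
  letI : Algebra k Γ(Y, V) := φ0.hom.toAlgebra
  haveI : LocallyOfFiniteType (Spec.map φ0) := by rw [hφ0]; infer_instance
  haveI : Algebra.FiniteType k Γ(Y, V) :=
    RingHom.finiteType_algebraMap.1 ((HasRingHomProperty.Spec_iff (P := @LocallyOfFiniteType)).1 ‹_›)
  let X' := pullback f j
  let φ : Γ(Y, V) ⟶ Γ(X', ⊤) := Spec.preimage (X'.isoSpec.inv ≫ f')
  have hφ : Spec.map φ = X'.isoSpec.inv ≫ f' := Spec.map_preimage _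
  letI : Algebra Γ(Y, V) Γ(X', ⊤) := φ.hom.toAlgebra
  haveI : LocallyOfFiniteType (Spec.map φ) := by rw [hφ]; infer_instance
  haveI : Algebra.FiniteType Γ(Y, V) Γ(X', ⊤) :=
    RingHom.finiteType_algebraMap.1 ((HasRingHomProperty.Spec_iff (P := @LocallyOfFiniteType)).1 ‹_›)
  obtain ⟨N, π', hπ'⟩ := Algebra.FiniteType.iff_quotient_mvPolynomial''.1 ‹Algebra.FiniteType Γ(Y, V) Γ(X', ⊤)›
  let h := Spec.map (CommRingCat.ofHom (MvPolynomial.C (σ := Fin N) (R := Γ(Y, V))))
  let i : X' ⟶ Spec (CommRingCat.of (MvPolynomial (Fin N) Γ(Y, V))) :=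
    X'.isoSpec.hom ≫ Spec.map (CommRingCat.ofHom π'.toRingHom)
  haveI : IsClosedImmersion (Spec.map (CommRingCat.ofHom π'.toRingHom)) := IsClosedImmersion.spec_of_surjective _ hπ'
  haveI : IsClosedImmersion i := inferInstance
  have hi : i ≫ h = f' := by
    show (_ ≫ Spec.map _) ≫ Spec.map _ = _
    rw [Category.assoc, ← Spec.map_comp, show CommRingCat.ofHom (MvPolynomial.C (σ := Fin N) (R := Γ(Y, V))) ≫
      CommRingCat.ofHom π'.toRingHom = φ from CommRingCat.hom_ext (RingHom.ext fun c => π'.commutes c), hφ,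
      Iso.hom_inv_id_assoc]
  rw [← hi]
  refine isZero_stalk_Rpush_closed_comp i h ξ' _ q ?_
  haveI : LocallyOfFiniteType h := (HasRingHomProperty.Spec_iff (P := @LocallyOfFiniteType)).2
    (RingHom.finiteType_algebraMap.2 (inferInstance : Algebra.FiniteType Γ(Y, V) (MvPolynomial (Fin N) Γ(Y, V))))
  haveI : LocallyOfFiniteType (Spec.map (CommRingCat.ofHom (algebraMap k Γ(Y, V)))) := by
    show LocallyOfFiniteType (Spec.map φ0)
    infer_instance
  have hT : EtCoh.IsTorsion ((EtCoh.push i).obj ((EtCoh.pull π).obj F)) := by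
    haveI := push_preservesFiniteLimits i
    haveI : (EtCoh.push i).Additive := (EtCoh.pullPushAdj i).right_adjoint_additive
    exact EtFound.isTorsion_of_iso ((EtCoh.push i).rightDerivedZeroIsoSelf.app _)
      (EtFound.isTorsion_Rpush i (isTorsion_pull' π hF) 0)
  refine isZero_stalk_Rpush_space (k := k) (A := Γ(Y, V)) ξ' rfl N _ hT a (fun z hz => ?_) q ?_
  · refine supp_push_closed_deg_le i (h ≫ Spec.map φ0) _ (fun x hx => ?_) z hz
    have h2 : i ≫ h ≫ Spec.map φ0 = π ≫ f ≫ g := by
      rw [← Category.assoc, hi, hφ0, ← Category.assoc, ← hP.w, Category.assoc]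
    haveI : LocallyOfFiniteType (π ≫ f ≫ g) := inferInstance
    rw [VarDim.deg_congr h2, VarDim.deg_comp (f ≫ g) π x]
    exact hs _ (mem_supp_of_pull π F hx)
  · show a < q + VarDim.deg (Spec.map φ0) _
    rw [VarDim.deg_congr hφ0, VarDim.deg_comp g j, ← Scheme.Hom.comp_apply, hξ']
    rwa [hξ]

end Groth.Agent.ArtinVan
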