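import Groth.Agent.ArtinVan.Cover
import Groth.Agent.S0540
import Mathlib.RingTheory.Ideal.KrullsHeightTheorem

/-!
# Residue fields and dimensions in the strict henselization of a local ring of a finite type algebra
-/

set_option autoImplicit false
set_option linter.style.haveILetI false
set_option backward.isDefEq.respectTransparency false
set_option backward.isDefEq.respectTransparency.types false
set_option maxHeartbeats 1000000

universe u

open CategoryTheory AlgebraicGeometry Polynomial

namespace Groth.Agent.ArtinVan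

/-- Residue fields made of algebraic elements have relative degree zero. -/
theorem rdeg_eq_zero_of_algs {A C : Type u} [CommRing A] [CommRing C] (φ0 : A →+* C)
    (z : Spec (CommRingCat.of C)) (hall : ∀ c : C, ev z c ∈ algs ((ev z).comp φ0)) :
    VarDim.rdeg (Spec.map (CommRingCat.ofHom φ0)) z = 0 := by
  let r := Spec.map (CommRingCat.ofHom φ0)
  let Ω := (Spec (CommRingCat.of C)).residueField z
  letI := (r.residueFieldMap z).hom.toAlgebra
  haveI : Algebra.IsAlgebraic ((Spec (CommRingCat.of A)).residueField (r z)) Ω := by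
    let M : Subfield Ω := (r.residueFieldMap z).hom.fieldRange
    have hle : Subfield.closure (Set.range ((ev z).comp φ0)) ≤ M :=
      Subfield.closure_le.2 (by rintro _ ⟨b, rfl⟩; exact ⟨ev (r z) b, ev_naturality _ z b⟩)
    refine ⟨fun w => IsIntegral.isAlgebraic ?_⟩
    have hw : w ∈ algs ((ev z).comp φ0) := by
      obtain ⟨c, d, rfl⟩ := ev_div z w
      exact div_mem (hall c) (hall d)
    obtain ⟨Q, hQ, hQw⟩ := (mem_algebraicClosure_iff'.1 hw : IsIntegral _ w)
    have hlift : Q.map (algebraMap (Subfield.closure (Set.range ((ev z).comp φ0))) Ω) ∈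
        Polynomial.lifts (r.residueFieldMap z).hom := by
      refine (Polynomial.lifts_iff_coeff_lifts _).2 fun n => ?_
      rw [Polynomial.coeff_map]
      obtain ⟨v, hv⟩ := hle (Q.coeff n).2
      exact ⟨v, hv⟩
    obtain ⟨Q', hQ', -, hQm⟩ := Polynomial.lifts_and_natDegree_eq_and_monic hlift (hQ.map _)
    refine ⟨Q', hQm, ?_⟩
    show Polynomial.eval₂ (r.residueFieldMap z).hom w Q' = 0
    rw [Polynomial.eval₂_eq_eval_map, hQ', ← Polynomial.eval₂_eq_eval_map]
    exact hQw
  exact trdeg_eq_zero

variable {k A0 O R : Type u} [Field k] [CommRing A0] [Algebra k A0] [Algebra.FiniteType k A0]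
  [CommRing O] [IsLocalRing O] [CommRing R] [IsLocalRing R]
  [Algebra A0 O] [Algebra O R] [Algebra A0 R] [IsScalarTower A0 O R] [IsLocalHom (algebraMap O R)]
  [Hensel.IsStrictHenselization O R] [Algebra k R] [IsScalarTower k A0 R]

omit [Algebra.FiniteType k A0] in
variable (k) in
include O in
theorem exists_good_finset (p : Ideal A0) [p.IsPrime] [IsLocalization.AtPrime O p] (T : Finset R) :
    ∃ s : GoodIdx A0 k R, ∀ r ∈ T, r ∈ stage A0 k (s.1 : Set R) := by
  classical
  induction T using Finset.induction with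
  | empty => exact ⟨Classical.arbitrary _, fun r hr => absurd hr (Finset.notMem_empty r)⟩
  | insert r T _ ih =>
    obtain ⟨s, hs⟩ := ih
    obtain ⟨t, ht⟩ := exists_good (O := O) (L := k) p (RingHom.id A0) (RingHom.id R) (fun _ => rfl) r
    refine ⟨⟨s.1 ∪ t.1, by rw [Finset.coe_union]; exact good_union s.2 t.2⟩, fun r' hr' => ?_⟩
    rcases Finset.mem_insert.1 hr' with rfl | h
    · exact stage_mono (Finset.coe_subset.2 Finset.subset_union_right) ht
    · exact stage_mono (Finset.coe_subset.2 Finset.subset_union_left) (hs r' h)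

omit [IsLocalRing R] [Algebra.FiniteType k A0] in
/-- All elements of a good stage are algebraic at its points. -/
theorem mem_algs_of_stage {s : Set R} (hs : Good A0 k s) {Ω : Type u} [Field Ω] (ψ : stage A0 k s →+* Ω)
    (c : stage A0 k s) : ψ c ∈ algs (ψ.comp (toStage s)) := by
  obtain ⟨x, hx⟩ := c
  refine Algebra.adjoin_induction (p := fun x hx => ψ ⟨x, hx⟩ ∈ algs (ψ.comp (toStage s))) ?_ ?_ ?_ ?_ hx
  · rintro y (⟨b, rfl⟩ | hy)
    · exact image_mem_algs (ψ.comp (toStage s)) b
    · exact hs Ω ψ y hy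
  · intro l
    have h := image_mem_algs (ψ.comp (toStage (A := A0) (L := k) s)) (algebraMap k A0 l)
    have hl : toStage (A := A0) (L := k) s (algebraMap k A0 l) = algebraMap k (stage A0 k s) l :=
      Subtype.ext (IsScalarTower.algebraMap_apply k A0 R l).symm
    rw [RingHom.comp_apply, hl] at h
    exact h
  · intro x y hx hy h1 h2
    have h := add_mem h1 h2
    rw [← map_add] at h
    exact h
  · intro x y hx hy h1 h2
    have h := mul_mem h1 h2
    rw [← map_mul] at h
    exact h

omit [Algebra.FiniteType k A0] in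
include O k in
/-- The residue fields of a strict henselization are algebraic over those of the ring. -/
theorem rdeg_strict_eq_zero (p : Ideal A0) [p.IsPrime] [IsLocalization.AtPrime O p] (y' : Spec (CommRingCat.of R)) :
    VarDim.rdeg (Spec.map (CommRingCat.ofHom (algebraMap A0 R))) y' = 0 := by
  refine rdeg_eq_zero_of_algs _ y' fun c => ?_
  obtain ⟨s, hs⟩ := exists_good_finset k (O := O) p {c}
  let ψ : stage A0 k (s.1 : Set R) →+* _ := (ev y').comp (stage A0 k (s.1 : Set R)).val.toRingHom
  exact mem_algs_of_stage s.2 ψ ⟨c, hs c (Finset.mem_singleton_self c)⟩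

variable (k) in
include O in
/-- A prime of the strict henselization lies over a point whose degree is at most that of the closed point plus
the dimension of its quotient. -/
theorem deg_le_add_dim (p : Ideal A0) [p.IsPrime] [IsLocalization.AtPrime O p] (y' : Spec (CommRingCat.of R))
    {a : ℕ} (ha : ringKrullDim (R ⧸ y'.asIdeal) = a) :
    VarDim.deg (Spec.map (CommRingCat.ofHom (algebraMap k A0)))
        (Spec.map (CommRingCat.ofHom (algebraMap A0 R)) y') ≤
      VarDim.deg (Spec.map (CommRingCat.ofHom (algebraMap k A0))) (⟨p, ‹p.IsPrime›⟩ : PrimeSpectrum A0) + a := by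
  classical
  haveI : IsNoetherianRing A0 := Algebra.FiniteType.isNoetherianRing k A0
  haveI : IsNoetherianRing O := IsLocalization.isNoetherianRing p.primeCompl O inferInstance
  haveI : IsNoetherianRing R := (S0540.result O R).1 inferInstance
  let gA := Spec.map (CommRingCat.ofHom (algebraMap k A0))
  haveI : LocallyOfFiniteType gA :=
    (HasRingHomProperty.Spec_iff (P := @LocallyOfFiniteType)).2 (RingHom.finiteType_algebraMap.2 inferInstance)
  let m := IsLocalRing.maximalIdeal R
  have hym : y'.asIdeal ≤ m := IsLocalRing.le_maximalIdeal y'.isPrime.ne_top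
  have hmA : Ideal.comap (algebraMap A0 R) m = p := by
    have hloc : Ideal.comap (algebraMap O R) (IsLocalRing.maximalIdeal R) = IsLocalRing.maximalIdeal O :=
      ((IsLocalRing.local_hom_TFAE (algebraMap O R)).out 0 4).1 ‹IsLocalHom (algebraMap O R)›
    rw [IsScalarTower.algebraMap_eq A0 O R, ← Ideal.comap_comap, hloc]
    exact IsLocalization.AtPrime.under_maximalIdeal O p
  -- parameters of the quotient
  haveI : IsLocalRing (R ⧸ y'.asIdeal) := .of_surjective' _ Ideal.Quotient.mk_surjective
  obtain ⟨σ, hσm, hσc⟩ := (IsLocalRing.maximalIdeal (R ⧸ y'.asIdeal)).exists_finset_card_eq_height_of_isNoetherianRing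
  have hσa : σ.card = a := by
    have h1 := IsLocalRing.maximalIdeal_height_eq_ringKrullDim (R := R ⧸ y'.asIdeal)
    rw [ha, ← hσc] at h1
    exact_mod_cast h1
  haveI : IsLocalHom (Ideal.Quotient.mk y'.asIdeal) := .of_surjective _ Ideal.Quotient.mk_surjective
  have hrad : m ≤ Ideal.comap (Ideal.Quotient.mk y'.asIdeal) (Ideal.span (σ : Set (R ⧸ y'.asIdeal))).radical := by
    intro x hx
    rw [Ideal.mem_comap, Ideal.radical_eq_sInf]
    refine Submodule.mem_sInf.2 fun J hJ => ?_
    haveI := hJ.2
    have h1 := hσm.2 ⟨hJ.2, hJ.1⟩ (IsLocalRing.le_maximalIdeal hJ.2.ne_top)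
    refine h1 ((IsLocalRing.mem_maximalIdeal _).2 fun hu => ?_)
    exact (IsLocalRing.mem_maximalIdeal _).1 hx
      ((isUnit_map_iff (Ideal.Quotient.mk y'.asIdeal) x).1 hu)
  choose τ hτ using fun x : R ⧸ y'.asIdeal => Ideal.Quotient.mk_surjective x
  let T : Finset R := σ.image τ
  obtain ⟨S1, hS1⟩ := (IsNoetherian.noetherian y'.asIdeal : y'.asIdeal.FG)
  let W := S1 ∪ T
  have hrad' : ∀ c ∈ m, ∃ n : ℕ, c ^ n ∈ Ideal.span (W : Set R) := fun c hc => by
    obtain ⟨n, hn⟩ := hrad hc
    refine ⟨n, ?_⟩
    have hspan : Ideal.span (σ : Set (R ⧸ y'.asIdeal)) = Ideal.map (Ideal.Quotient.mk y'.asIdeal) (Ideal.span (T : Set R)) := by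
      rw [Ideal.map_span, Finset.coe_image, ← Set.image_comp]
      exact congrArg Ideal.span ((Set.image_congr fun x _ => hτ x).trans (Set.image_id' _)).symm
    rw [hspan, ← map_pow, ← Ideal.mem_comap, Ideal.comap_map_of_surjective' _ Ideal.Quotient.mk_surjective,
      Ideal.mk_ker, ← hS1] at hn
    rw [Finset.coe_union, Ideal.span_union]
    exact sup_comm (a := Ideal.span (T : Set R)) _ ▸ hn
  obtain ⟨P0, hP0⟩ := (IsNoetherian.noetherian p : p.FG)
  have hP0m : ∀ c ∈ P0, algebraMap A0 R c ∈ m := fun c hc => by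
    rw [← Ideal.mem_comap, hmA, ← hP0]
    exact Submodule.subset_span hc
  choose N hN using fun c : P0 => hrad' _ (hP0m c.1 c.2)
  choose f hf using fun c : P0 => (Submodule.mem_span_finset.1 (hN c)).imp fun g h => h.2
  obtain ⟨s, hs⟩ := exists_good_finset k (O := O) p (W ∪ Finset.univ.biUnion fun c : P0 => W.image (f c))
  -- the stage
  let C := stage A0 k (s.1 : Set R)
  haveI : IsScalarTower k k R := inferInstance
  haveI : Algebra.FiniteType k C := finiteType_stage k s.1
  haveI : IsNoetherianRing C := Algebra.FiniteType.isNoetherianRing k C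
  let gC := Spec.map (CommRingCat.ofHom (algebraMap k C))
  haveI : LocallyOfFiniteType gC :=
    (HasRingHomProperty.Spec_iff (P := @LocallyOfFiniteType)).2 (RingHom.finiteType_algebraMap.2 inferInstance)
  let r := Spec.map (CommRingCat.ofHom (toStage (A := A0) (L := k) (s.1 : Set R)))
  have hr : r ≫ gA = gC := by
    rw [← Spec.map_comp]
    exact congrArg Spec.map (CommRingCat.hom_ext (RingHom.ext fun l =>
      Subtype.ext (IsScalarTower.algebraMap_apply k A0 R l).symm))
  have hdeg : ∀ z : Spec (CommRingCat.of C), VarDim.deg gC z = VarDim.deg gA (r z) := fun z => by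
    haveI : LocallyOfFiniteType r := by
      haveI : LocallyOfFiniteType (r ≫ gA) := by rw [hr]; infer_instance
      exact locallyOfFiniteType_of_comp r gA
    rw [VarDim.deg_eq_add r gA hr z, VarDim.fdeg,
      rdeg_eq_zero_of_algs (toStage (A := A0) (L := k) (s.1 : Set R)) z fun c => mem_algs_of_stage s.2 _ c]
    simp
  let v := Spec.map (CommRingCat.ofHom C.val.toRingHom)
  let zy : Spec (CommRingCat.of C) := v y'
  let zq : Spec (CommRingCat.of C) := v (IsLocalRing.closedPoint R)
  have hrv : ∀ w, r (v w) = Spec.map (CommRingCat.ofHom (algebraMap A0 R)) w := fun w => by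
    rw [← Scheme.Hom.comp_apply, ← Spec.map_comp]
    rfl
  have hrq : r zq = (⟨p, ‹p.IsPrime›⟩ : PrimeSpectrum A0) := (hrv _).trans (PrimeSpectrum.ext hmA)
  rw [← hrv y', ← hdeg, ← hrq, ← hdeg]
  -- the image of the parameters
  have hsW : ∀ w ∈ W, w ∈ C := fun w hw => hs w (Finset.mem_union_left _ hw)
  let T' : Finset C := T.attach.image fun w => ⟨w.1, hsW w.1 (Finset.mem_union_right _ w.2)⟩
  let I := zy.asIdeal ⊔ Ideal.span (T' : Set C)
  have hTm : ∀ w ∈ T, w ∈ m := fun w hw => by
    obtain ⟨x, hx, rfl⟩ := Finset.mem_image.1 hw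
    refine (IsLocalRing.mem_maximalIdeal _).2 fun hu => ?_
    have h1 := hσm.1.2 (Ideal.subset_span hx)
    rw [IsLocalRing.mem_maximalIdeal, ← hτ x] at h1
    exact h1 (hu.map (Ideal.Quotient.mk y'.asIdeal))
  have hzyq : zy.asIdeal ≤ zq.asIdeal := fun c hc => hym hc
  have hIq : I ≤ zq.asIdeal := sup_le hzyq (Ideal.span_le.2 fun c hc => by
    obtain ⟨w, -, rfl⟩ := Finset.mem_image.1 hc
    exact hTm w.1 w.2)
  have hWI : ∀ w (hw : w ∈ W), (⟨w, hsW w hw⟩ : C) ∈ I := fun w hw => by
    rcases Finset.mem_union.1 hw with h | h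
    · refine Ideal.mem_sup_left ?_
      show w ∈ y'.asIdeal
      rw [← hS1]
      exact Submodule.subset_span h
    · exact Ideal.mem_sup_right (Ideal.subset_span (Finset.mem_image.2 ⟨⟨w, h⟩, Finset.mem_attach _ _, rfl⟩))
  have hpI : ∀ c : P0, toStage (A := A0) (L := k) (s.1 : Set R) c.1 ^ N c ∈ I := fun c => by
    have hfC : ∀ w ∈ W, f c w ∈ C := fun w hw => hs _ (Finset.mem_union_right _
      (Finset.mem_biUnion.2 ⟨c, Finset.mem_univ _, Finset.mem_image_of_mem _ hw⟩))
    have he : toStage (A := A0) (L := k) (s.1 : Set R) c.1 ^ N c =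
        ∑ w ∈ W.attach, (⟨f c w.1, hfC _ w.2⟩ : C) * ⟨w.1, hsW _ w.2⟩ := Subtype.ext (by
      push_cast
      rw [Finset.sum_attach W fun w => f c w * w]
      exact (hf c).symm)
    rw [he]
    exact sum_mem fun w _ => Ideal.mul_mem_left _ _ (hWI _ w.2)
  have hmin : ∀ z : Spec (CommRingCat.of C), I ≤ z.asIdeal → z.asIdeal ≤ zq.asIdeal → z = zq := fun z h1 h2 => by
    have hrz : r z = r zq := by
      refine PrimeSpectrum.ext (le_antisymm (Ideal.comap_mono h2) ?_)
      rw [hrq]
      show p ≤ _
      rw [← hP0]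
      refine Submodule.span_le.2 fun c hc => ?_
      exact z.isPrime.mem_of_pow_mem _ (h1 (hpI ⟨c, hc⟩))
    refine VarDim.eq_of_specializes_of_deg_le (p := gC) ((PrimeSpectrum.le_iff_specializes _ _).1 h2) ?_
    rw [hdeg, hdeg, hrz]
  -- the quotient domain
  let D := C ⧸ zy.asIdeal
  let π : C →+* D := Ideal.Quotient.mk _
  let i := Spec.map (CommRingCat.ofHom π)
  haveI : IsClosedImmersion i := IsClosedImmersion.spec_of_surjective _ Ideal.Quotient.mk_surjective
  haveI : LocallyOfFiniteType (i ≫ gC) := inferInstance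
  let q' : Spec (CommRingCat.of D) := ⟨Ideal.map π zq.asIdeal,
    Ideal.map_isPrime_of_surjective Ideal.Quotient.mk_surjective (by rw [Ideal.mk_ker]; exact hzyq)⟩
  let η : Spec (CommRingCat.of D) := ⟨⊥, Ideal.isPrime_bot⟩
  have hiq : i q' = zq := PrimeSpectrum.ext (by
    show Ideal.comap π (Ideal.map π zq.asIdeal) = _
    rw [Ideal.comap_map_of_surjective' _ Ideal.Quotient.mk_surjective, Ideal.mk_ker]
    exact sup_eq_left.2 hzyq)
  have hiη : i η = zy := PrimeSpectrum.ext (by
    show Ideal.comap π ⊥ = _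
    rw [← RingHom.ker_eq_comap_bot, Ideal.mk_ker])
  have hdi : ∀ w, VarDim.deg (i ≫ gC) w = VarDim.deg gC (i w) := fun w => by
    rw [VarDim.deg_comp_eq i gC w, VarDim.fdeg, VarDim.rdeg_preimmersion i w]
    simp
  have hht : q'.asIdeal.height ≤ (a : ℕ∞) := by
    refine le_trans (Ideal.height_le_card_of_mem_minimalPrimes_span_finset (s := T'.image π) ?_) ?_
    · refine ⟨⟨q'.isPrime, Ideal.span_le.2 ?_⟩, fun J hJ hle => ?_⟩
      · rw [Finset.coe_image]
        rintro _ ⟨c, hc, rfl⟩
        exact Ideal.mem_map_of_mem π (hIq (Ideal.mem_sup_right (Ideal.subset_span hc)))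
      · haveI := hJ.1
        let z : Spec (CommRingCat.of C) := ⟨J.comap π, Ideal.IsPrime.comap π⟩
        have hz := hmin z (sup_le (fun c hc => by
            show π c ∈ J
            rw [show π c = 0 from Ideal.Quotient.eq_zero_iff_mem.2 hc]
            exact zero_mem _)
          (Ideal.span_le.2 fun c hc => hJ.2 (Ideal.subset_span (Finset.mem_coe.2 (Finset.mem_image_of_mem π hc)))))
          ((Ideal.comap_mono hle).trans (le_of_eq (congrArg PrimeSpectrum.asIdeal hiq)))
        show Ideal.map π zq.asIdeal ≤ J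
        rw [← hz]
        exact Ideal.map_comap_le
    · refine Nat.cast_le.2 ((Finset.card_image_le.trans Finset.card_image_le).trans ?_)
      rw [Finset.card_attach]
      exact Finset.card_image_le.trans hσa.le
  haveI := q'.isPrime
  obtain ⟨b, hb, -, hle⟩ := VarDim.exists_deg_add_stalk (i ≫ gC) q'
  have hba : b ≤ a := by
    letI : Algebra D ((Spec (CommRingCat.of D)).presheaf.stalk q') := StructureSheaf.stalkAlgebra D q'
    haveI : IsLocalization.AtPrime ((Spec (CommRingCat.of D)).presheaf.stalk q') q'.asIdeal :=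
      StructureSheaf.IsLocalization.to_stalk D q'
    rw [IsLocalization.AtPrime.ringKrullDim_eq_height q'.asIdeal ((Spec (CommRingCat.of D)).presheaf.stalk q')] at hb
    have h2 : q'.asIdeal.height = (b : ℕ∞) := by exact_mod_cast hb
    rw [h2] at hht
    exact_mod_cast hht
  have h3 := hle η ((PrimeSpectrum.le_iff_specializes _ _).1 bot_le)
  rw [hdi, hdi, hiq, hiη] at h3
  exact h3.trans (Nat.add_le_add_left hba _)

end Groth.Agent.ArtinVan
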