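import Groth.Agent.ArtinVan.Affine
import Groth.Agent.ArtinVan.Strict
import Groth.Agent.S0145
import Groth.Agent.S3884
import Groth.Agent.S6186

/-!
# Affine vanishing over a strict localization
-/

set_option autoImplicit false
set_option linter.style.haveILetI false
set_option backward.isDefEq.respectTransparency false
set_option backward.isDefEq.respectTransparency.types false
set_option maxHeartbeats 1000000

universe u

open CategoryTheory CategoryTheory.Limits AlgebraicGeometry Opposite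

namespace Groth.Agent.ArtinVan

open Groth.Agent.EtFound

/-- A direct image has no stalk outside a closed set containing the image of the support. -/
theorem supp_push_subset {X Y : Scheme.{u}} (π : X ⟶ Y) (F : EtCoh.Ab X) {Z : Set Y} (hZ : IsClosed Z)
    (h : ∀ x ∈ EtPBC.supp F, π x ∈ Z) : EtPBC.supp ((EtCoh.push π).obj F) ⊆ Z := by
  refine CdFin.mem_of_supp fun Ω _ _ ξ hξ => ?_
  let W : Y.Opens := ⟨Zᶜ, hZ.isOpen_compl⟩
  let π' := pullback.snd π W.ι
  let j' := pullback.fst π W.ι
  have hP : IsPullback j' π' π W.ι := IsPullback.of_hasPullback π W.ι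
  haveI : IsOpenImmersion j' := MorphismProperty.pullback_fst _ _ inferInstance
  haveI := EtBC.isIso_baseChange0_etale hP F
  have hr : Set.range ξ.base ⊆ Set.range W.ι.base := by
    rw [range_point ξ, Scheme.Opens.range_ι]
    exact Set.singleton_subset_iff.2 hξ
  let ξ' := IsOpenImmersion.lift W.ι ξ hr
  rw [← IsOpenImmersion.lift_fac W.ι ξ hr]
  refine IsZero.of_iso ?_ ((sheafFiberPullIso (A := AddCommGrpCat.{u + 1}) W.ι ξ').app _).symm
  refine IsZero.of_iso ?_ ((EtCoh.stalk ξ').mapIso (asIso (EtCoh.baseChange0 π W.ι π' j' hP.w F)))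
  haveI : (EtCoh.stalk ξ').Additive := Functor.additive_of_preserves_binary_products _
  haveI : (EtCoh.push π').Additive := (EtCoh.pullPushAdj π').right_adjoint_additive
  refine (EtCoh.stalk ξ').map_isZero ((EtCoh.push π').map_isZero (CdFin.isZero_of_supp_subset_empty fun z hz => ?_))
  have h1 := h _ (mem_supp_of_pull j' F hz)
  rw [← Scheme.Hom.comp_apply, hP.w, Scheme.Hom.comp_apply] at h1
  have h2 : W.ι (π' z) ∈ Set.range W.ι.base := ⟨_, rfl⟩
  rw [Scheme.Opens.range_ι] at h2
  exact h2 h1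

/-- The main step of affine vanishing over a strict localization. -/
theorem subsingleton_H_strict {k : Type u} [Field k] {Y : Scheme.{u}} (g : Y ⟶ Spec (CommRingCat.of k))
    [LocallyOfFiniteType g] (y : Y) (R : Type u) [CommRing R] [IsLocalRing R] [Algebra (Y.presheaf.stalk y) R]
    [IsLocalHom (algebraMap (Y.presheaf.stalk y) R)] [Hensel.IsStrictHenselization (Y.presheaf.stalk y) R]
    [IsSepClosed (IsLocalRing.ResidueField R)]
    (C : Type u) [CommRing C] [Algebra R C] [Algebra.FiniteType R C]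
    (F : EtCoh.Ab (Spec (CommRingCat.of C))) (hF : EtCoh.IsTorsion F) {d : ℕ}
    (hδ : ∀ x ∈ EtPBC.supp F, ∃ a b : ℕ,
      ringKrullDim (R ⧸ (Spec.map (CommRingCat.ofHom (algebraMap R C)) x).asIdeal) = a ∧
      VarDim.rdeg (Spec.map (CommRingCat.ofHom (algebraMap R C))) x = b ∧ a + b ≤ d) {q : ℕ} (hq : d < q) :
    Subsingleton (EtCoh.H (Spec (CommRingCat.of C)) F q) := by
  classical
  haveI : IsLocallyNoetherian Y := LocallyOfFiniteType.isLocallyNoetherian g
  obtain ⟨V, hV, hyV, -⟩ := exists_isAffineOpen_mem_and_subset (x := y) (U := ⊤) trivial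
  let A0 := Γ(Y, V)
  let φ0 : CommRingCat.of k ⟶ A0 := Spec.preimage (hV.fromSpec ≫ g)
  have hφ0 : Spec.map φ0 = hV.fromSpec ≫ g := Spec.map_preimage _
  letI : Algebra k A0 := φ0.hom.toAlgebra
  haveI : LocallyOfFiniteType (Spec.map φ0) := by rw [hφ0]; infer_instance
  haveI : Algebra.FiniteType k A0 :=
    RingHom.finiteType_algebraMap.1 ((HasRingHomProperty.Spec_iff (P := @LocallyOfFiniteType)).1 ‹_›)
  let p : Ideal A0 := (hV.primeIdealOf ⟨y, hyV⟩).asIdeal
  haveI : p.IsPrime := (hV.primeIdealOf ⟨y, hyV⟩).isPrime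
  letI : Algebra A0 (Y.presheaf.stalk y) := TopCat.Presheaf.algebra_section_stalk Y.presheaf (U := V) ⟨y, hyV⟩
  haveI : IsLocalization.AtPrime (Y.presheaf.stalk y) p := hV.isLocalization_stalk ⟨y, hyV⟩
  letI : Algebra A0 R :=
    ((algebraMap (Y.presheaf.stalk y) R).comp (algebraMap A0 (Y.presheaf.stalk y))).toAlgebra
  haveI : IsScalarTower A0 (Y.presheaf.stalk y) R := IsScalarTower.of_algebraMap_eq fun _ => rfl
  have hspec : Hens2.specOf Y y R = Spec.map (CommRingCat.ofHom (algebraMap A0 R)) ≫ hV.fromSpec := by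
    show _ ≫ Y.fromSpecStalk y = _
    rw [← hV.fromSpecStalk_eq_fromSpecStalk hyV, IsAffineOpen.fromSpecStalk, ← Category.assoc, ← Spec.map_comp]
    rfl
  letI : Algebra k R := ((algebraMap A0 R).comp (algebraMap k A0)).toAlgebra
  haveI : IsScalarTower k A0 R := IsScalarTower.of_algebraMap_eq fun _ => rfl
  letI : Algebra A0 C := ((algebraMap R C).comp (algebraMap A0 R)).toAlgebra
  haveI : IsScalarTower A0 R C := IsScalarTower.of_algebraMap_eq fun _ => rfl
  haveI : IsNoetherianRing A0 := Algebra.FiniteType.isNoetherianRing k A0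
  haveI : IsNoetherianRing (Y.presheaf.stalk y) := IsLocalization.isNoetherianRing p.primeCompl _ inferInstance
  haveI : IsNoetherianRing R := (S0540.result (Y.presheaf.stalk y) R).1 inferInstance
  haveI : IsNoetherianRing C := Algebra.FiniteType.isNoetherianRing R C
  let gA := Spec.map (CommRingCat.ofHom (algebraMap k A0))
  haveI : LocallyOfFiniteType gA :=
    (HasRingHomProperty.Spec_iff (P := @LocallyOfFiniteType)).2 (RingHom.finiteType_algebraMap.2 inferInstance)
  let g0 := Spec.map (CommRingCat.ofHom (algebraMap A0 R))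
  let hR := Spec.map (CommRingCat.ofHom (algebraMap R C))
  -- the stages
  obtain ⟨T0, hT0⟩ := (Algebra.FiniteType.out : (⊤ : Subalgebra R C).FG)
  let ι := {T : Finset C // T0 ⊆ T}
  haveI : Nonempty ι := ⟨⟨T0, subset_rfl⟩⟩
  haveI : IsDirected ι (· ≤ ·) :=
    ⟨fun s t => ⟨⟨s.1 ∪ t.1, s.2.trans Finset.subset_union_left⟩, show s.1 ⊆ _ from Finset.subset_union_left,
      show t.1 ⊆ _ from Finset.subset_union_right⟩⟩
  haveI : IsFiltered ι := isFiltered_of_directed_le_nonempty _
  let S : ι → Subalgebra A0 C := fun T => Algebra.adjoin A0 (T.1 : Set C)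
  let rings : ι ⥤ CommRingCat.{u} :=
    { obj := fun T => CommRingCat.of (S T)
      map := fun {s t} h => CommRingCat.ofHom (Subalgebra.inclusion
        (Algebra.adjoin_mono (Finset.coe_subset.2 (show s.1 ⊆ t.1 from leOfHom h)))).toRingHom }
  let cc : Cocone rings :=
    { pt := CommRingCat.of C
      ι := { app := fun T => CommRingCat.ofHom (S T).val.toRingHom } }
  have hcc : IsColimit cc := by
    haveI : ReflectsColimit rings (forget CommRingCat.{u}) := reflectsColimit_of_reflectsIsomorphisms _ _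
    refine isColimitOfReflects (forget CommRingCat.{u}) ?_
    refine Types.FilteredColimit.isColimitOf' _ _ (fun z => ?_) fun s x w h => ?_
    · exact ⟨⟨insert z T0, Finset.subset_insert _ _⟩,
        ⟨z, Algebra.subset_adjoin (Finset.mem_coe.2 (Finset.mem_insert_self z T0))⟩, rfl⟩
    · exact ⟨s, 𝟙 s, congrArg _ (Subtype.ext h)⟩
  haveI : PreservesLimitsOfSize.{u, u} Scheme.Spec.{u} := ΓSpec.adjunction.rightAdjoint_preservesLimits
  let Xs : ιᵒᵖ ⥤ Scheme.{u} := rings.op ⋙ Scheme.Spec
  let cn : Cone Xs := Scheme.Spec.mapCone cc.op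
  have hcn : IsLimit cn := isLimitOfPreserves Scheme.Spec hcc.op
  haveI : ∀ a, PreservesFiniteLimits (EtCoh.pull (cn.π.app a)) := fun a => EtFound.pull_preservesFiniteLimits _
  haveI : ∀ ⦃a b : ιᵒᵖ⦄ (h : a ⟶ b), PreservesFiniteLimits (EtCoh.pull (Xs.map h)) :=
    fun a b h => EtFound.pull_preservesFiniteLimits _
  let π : ∀ T : ι, Spec (CommRingCat.of C) ⟶ Spec (CommRingCat.of (S T)) :=
    fun T => Spec.map (CommRingCat.ofHom (S T).val.toRingHom)
  let f : ∀ T : ι, Spec (CommRingCat.of (S T)) ⟶ Spec (CommRingCat.of A0) :=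
    fun T => Spec.map (CommRingCat.ofHom (algebraMap A0 (S T)))
  haveI hfl : ∀ T, LocallyOfFiniteType (f T) := fun T =>
    (HasRingHomProperty.Spec_iff (P := @LocallyOfFiniteType)).2 (RingHom.finiteType_algebraMap.2
      ((Subalgebra.fg_iff_finiteType _).1 (Subalgebra.fg_adjoin_finset _)))
  have hπf : ∀ T, π T ≫ f T = hR ≫ g0 := fun T => by
    rw [← Spec.map_comp, ← Spec.map_comp]
    rfl
  -- the residue fields of the stages
  have hπ0 : ∀ (T : ι) (x : Spec (CommRingCat.of C)), VarDim.rdeg (π T) x = 0 := fun T x => by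
    refine rdeg_eq_zero_of_algs _ x fun c => ?_
    let Φ := algs ((ev x).comp (S T).val.toRingHom)
    have hRΦ : ∀ r : R, ev x (algebraMap R C r) ∈ Φ := fun r => by
      obtain ⟨s, hs⟩ := exists_good_finset k (O := Y.presheaf.stalk y) p {r}
      let ψ : stage A0 k (s.1 : Set R) →+* _ := ((ev x).comp (algebraMap R C)).comp
        (stage A0 k (s.1 : Set R)).val.toRingHom
      have h := mem_algs_of_stage s.2 ψ ⟨r, hs r (Finset.mem_singleton_self r)⟩
      refine (?_ : (algs (ψ.comp (toStage (s.1 : Set R)))).toSubfield ≤ Φ.toSubfield) h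
      intro w hw
      have hle : Subfield.closure (Set.range (ψ.comp (toStage (A := A0) (L := k) (s.1 : Set R)))) ≤
          Subfield.closure (Set.range ((ev x).comp (S T).val.toRingHom)) :=
        Subfield.closure_le.2 (by
          rintro _ ⟨a, rfl⟩
          exact Subfield.subset_closure ⟨algebraMap A0 (S T) a, rfl⟩)
      refine mem_algebraicClosure_iff'.2 ?_
      obtain ⟨Q, hQ, hQw⟩ := (mem_algebraicClosure_iff'.1 hw : IsIntegral _ w)
      exact ⟨Q.map (Subfield.inclusion hle), hQ.map _, by rw [Polynomial.eval₂_map]; exact hQw⟩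
    have hc : c ∈ (⊤ : Subalgebra R C) := Algebra.mem_top
    rw [← hT0] at hc
    refine Algebra.adjoin_induction (p := fun c _ => ev x c ∈ Φ) ?_ hRΦ ?_ ?_ hc
    · intro z hz
      exact image_mem_algs ((ev x).comp (S T).val.toRingHom)
        ⟨z, Algebra.subset_adjoin (Finset.mem_coe.2 (T.2 hz))⟩
    · intro a b _ _ ha hb
      rw [map_add]; exact add_mem ha hb
    · intro a b _ _ ha hb
      rw [map_mul]; exact mul_mem ha hb
  let T₀ : ι := ⟨T0, subset_rfl⟩
  let dy := VarDim.deg gA (hV.primeIdealOf ⟨y, hyV⟩)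
  -- the degree bound at the bottom stage
  let E : Set (Spec (CommRingCat.of C)) := {x | VarDim.deg (f T₀ ≫ gA) (π T₀ x) ≤ d + dy}
  have hE : StableUnderSpecialization E := fun x x' hxx hx =>
    (VarDim.deg_le_of_specializes (f T₀ ≫ gA) (hxx.map (π T₀).continuous)).trans hx
  have hFE : EtPBC.supp F ⊆ E := fun x hx => by
    obtain ⟨a, b, ha, hb, hab⟩ := hδ x hx
    have h1 := deg_le_add_dim k (O := Y.presheaf.stalk y) p (hR x) ha
    have hfπ : (f T₀) (π T₀ x) = g0 (hR x) := by
      rw [← Scheme.Hom.comp_apply, hπf, Scheme.Hom.comp_apply]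
    have h2 : VarDim.rdeg (f T₀) (π T₀ x) = (b : Cardinal.{u}) := by
      have e := VarDim.rdeg_comp (π T₀) (f T₀) x
      rw [VarDim.rdeg_congr (hπf T₀), VarDim.rdeg_comp hR g0 x, hπ0, add_zero,
        rdeg_strict_eq_zero (k := k) (O := Y.presheaf.stalk y) p (hR x), zero_add] at e
      rw [← e]
      exact hb
    show VarDim.deg (f T₀ ≫ gA) (π T₀ x) ≤ d + dy
    rw [VarDim.deg_comp_eq (f T₀) gA, VarDim.fdeg, h2, Cardinal.toNat_natCast, hfπ]
    change VarDim.deg gA (g0 (hR x)) ≤ dy + a at h1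
    omega
  -- the degree bound at every stage
  have hstage : ∀ (T : ι) (x : Spec (CommRingCat.of C)), x ∈ E → VarDim.deg (f T ≫ gA) (π T x) ≤ d + dy := by
    intro T x hx
    let tr := Spec.map (CommRingCat.ofHom (Subalgebra.inclusion
      (Algebra.adjoin_mono (R := A0) (Finset.coe_subset.2 T.2) : S T₀ ≤ S T)).toRingHom)
    have htr : π T ≫ tr = π T₀ := by rw [← Spec.map_comp]; rfl
    have htf : tr ≫ f T₀ ≫ gA = f T ≫ gA := by
      rw [← Category.assoc, ← Spec.map_comp]; rfl
    haveI : LocallyOfFiniteType tr := by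
      haveI : LocallyOfFiniteType (tr ≫ f T₀ ≫ gA) := by rw [htf]; infer_instance
      exact locallyOfFiniteType_of_comp tr (f T₀ ≫ gA)
    have e := VarDim.rdeg_comp (π T) tr x
    rw [VarDim.rdeg_congr htr, hπ0, hπ0, add_zero] at e
    rw [VarDim.deg_eq_add tr (f T₀ ≫ gA) htf, VarDim.fdeg, ← e, ← Scheme.Hom.comp_apply, htr]
    simp only [map_zero, Nat.add_zero]
    exact hx
  -- reduction to constructible sheaves
  haveI : IsNoetherian (Spec (CommRingCat.of C)) := inferInstance
  obtain ⟨J, i₁, i₂, D, cD, hcD, ⟨e⟩, hD⟩ := S0145.result _ E hE F hF hFE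
  letI := i₁
  haveI := i₂
  haveI := EtLC12.QcqsAcyclic.preservesColimitsOfShape_HF (Spec (CommRingCat.of C)) q J
  let hcD' := isColimitOfPreserves (EtCoh.HF (Spec (CommRingCat.of C)) q) hcD
  suffices hj : ∀ j, Subsingleton (EtCoh.H (Spec (CommRingCat.of C)) (D.obj j) q) by
    have h0 : IsZero ((EtCoh.HF (Spec (CommRingCat.of C)) q).obj cD.pt) := by
      refine (IsZero.iff_id_eq_zero _).2 (hcD'.hom_ext fun j => ?_)
      exact (@AddCommGrpCat.isZero_of_subsingleton ((EtCoh.HF _ q).obj (D.obj j)) (hj j)).eq_of_src _ _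
    exact RatCoh13.subsingleton_H_of_iso e q (AddCommGrpCat.subsingleton_of_isZero h0)
  intro j
  obtain ⟨hcon, Z, hZc, hZE, hsZ⟩ := hD j
  set G := D.obj j with hGdef
  have hG : EtCoh.IsTorsion G := CdFin.isTorsion_of_isConstructible hcon
  refine subsingleton_of_forall_eq 0 fun ξ => ?_
  obtain ⟨T, ξT, rfl⟩ := (S3884.result Xs (fun a b h => inferInstanceAs (IsAffineHom (Spec.map _)))
    (fun a => inferInstanceAs (CompactSpace ↥(Spec _))) (fun a => inferInstanceAs (QuasiSeparatedSpace ↥(Spec _)))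
    cn hcn G q).1 ξ
  -- the stage sheaf
  let M := (EtCoh.push (π T)).obj G
  have hM : EtCoh.IsTorsion M := by
    haveI : QuasiCompact (π T) := inferInstance
    haveI := push_preservesFiniteLimits (π T)
    haveI : (EtCoh.push (π T)).Additive := (EtCoh.pullPushAdj (π T)).right_adjoint_additive
    exact EtFound.isTorsion_of_iso ((EtCoh.push (π T)).rightDerivedZeroIsoSelf.app G)
      (EtFound.isTorsion_Rpush (π T) hG 0)
  have hMs : ∀ z ∈ EtPBC.supp M, VarDim.deg (f T ≫ gA) z ≤ d + dy := by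
    obtain ⟨Ss, hSf, hSc, hSi, hSZ⟩ := TopologicalSpace.NoetherianSpace.exists_finite_set_isClosed_irreducible hZc
    let Z' : Set (Spec (CommRingCat.of (S T))) := ⋃ t : Ss, closure {π T (hSi t.1 t.2).genericPoint}
    haveI : Finite Ss := hSf.to_subtype
    have hZ' : IsClosed Z' := isClosed_iUnion_of_finite fun t => isClosed_closure
    intro z hz
    have hzZ := supp_push_subset (π T) G hZ' (fun x hx => ?_) hz
    · obtain ⟨t, ht⟩ := Set.mem_iUnion.1 hzZ
      have hg := (hSi t.1 t.2).isGenericPoint_genericPoint (hSc t.1 t.2)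
      refine (VarDim.deg_le_of_specializes (f T ≫ gA) (specializes_iff_mem_closure.2 ht)).trans (hstage T _ (hZE ?_))
      rw [hSZ]
      exact Set.mem_sUnion.2 ⟨t.1, t.2, hg.mem⟩
    · have hxZ := hsZ hx
      rw [hSZ] at hxZ
      obtain ⟨t, ht, hxt⟩ := Set.mem_sUnion.1 hxZ
      refine Set.mem_iUnion.2 ⟨⟨t, ht⟩, specializes_iff_mem_closure.1 ?_⟩
      exact (((hSi t ht).isGenericPoint_genericPoint (hSc t ht)).specializes hxt).map (π T).continuous
  -- vanishing over the strict localization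
  let fY := f T ≫ hV.fromSpec
  haveI : QuasiCompact fY := inferInstance
  haveI : QuasiSeparated fY := inferInstance
  obtain ⟨eS⟩ := S6186.result fY y R q
  let Tt := pullback fY (Hens2.specOf Y y R)
  let st := pullback.fst fY (Hens2.specOf Y y R)
  have hz : IsZero ((EtCoh.stalk (Hens2.geomPt Y y R)).obj ((EtCoh.Rpush fY q).obj M)) := by
    let ζ := Hens2.geomPt Y y R
    have hζy : ζ.base (default : Spec (CommRingCat.of (IsLocalRing.ResidueField R))) = y := CdFin.geomPt_base y R
    have hr : Set.range ζ.base ⊆ Set.range hV.fromSpec.base := by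
      rw [range_point ζ, hζy, hV.range_fromSpec]
      exact Set.singleton_subset_iff.2 hyV
    let ζ' := IsOpenImmersion.lift hV.fromSpec ζ hr
    have hζ' : ζ' ≫ hV.fromSpec = ζ := IsOpenImmersion.lift_fac _ ζ hr
    have hP : IsPullback (𝟙 _) (f T) fY hV.fromSpec :=
      ⟨⟨Category.id_comp _⟩, ⟨PullbackCone.IsLimit.mk _ (fun s => s.fst) (fun s => Category.comp_id _)
        (fun s => (cancel_mono hV.fromSpec).1 (by rw [Category.assoc]; exact s.condition))
        (fun s m h1 _ => by simpa using h1)⟩⟩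
    haveI := pull_preservesFiniteLimits (𝟙 (Spec (CommRingCat.of (S T))))
    haveI := EtBC.isIso_bcQ_etale hP q M
    show IsZero ((EtCoh.stalk ζ).obj _)
    rw [← hζ']
    refine IsZero.of_iso ?_ ((sheafFiberPullIso (A := AddCommGrpCat.{u + 1}) hV.fromSpec ζ').app _).symm
    refine IsZero.of_iso ?_ ((EtCoh.stalk ζ').mapIso (asIso (EtBC.bcQ fY hV.fromSpec (f T) (𝟙 _) hP.w q M)))
    refine isZero_stalk_Rpush_affine (f T) gA _ (isTorsion_pull' _ hM) (a := d + dy)
      (fun x hx => hMs x (mem_supp_of_pull (𝟙 _) M hx)) ζ' (y := hV.primeIdealOf ⟨y, hyV⟩) ?_ (by omega)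
    refine hV.fromSpec.isOpenEmbedding.injective ?_
    rw [hV.fromSpec_primeIdealOf]
    refine (Scheme.Hom.comp_apply ζ' hV.fromSpec _).symm.trans ?_
    rw [hζ']
    exact hζy
  have h0 : Subsingleton (EtCoh.H Tt ((EtCoh.pull st).obj M) q) :=
    @Equiv.subsingleton _ _ (eS.app M).addCommGroupIsoToAddEquiv.toEquiv.symm
      (AddCommGrpCat.subsingleton_of_isZero hz)
  let sec : Spec (CommRingCat.of C) ⟶ Tt := pullback.lift (π T) hR (by
    show π T ≫ f T ≫ hV.fromSpec = _
    rw [← Category.assoc, hπf, hspec, Category.assoc])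
  have hsec : sec ≫ st = π T := pullback.lift_fst _ _ _
  haveI := pull_preservesFiniteLimits sec
  haveI := pull_preservesFiniteLimits st
  haveI : PreservesFiniteLimits (EtCoh.pull (π T)) := EtFound.pull_preservesFiniteLimits _
  have hzero : EtCore.Hpull (π T) M q ξT = 0 := by
    rw [Hpull_comp sec st (π T) hsec M q ξT, Subsingleton.elim (h := h0) (EtCore.Hpull st M q ξT) 0, map_zero,
      Abelian.Ext.zero_comp]
  show ((EtCoh.HF _ q).map ((EtCoh.pullPushAdj (π T)).counit.app G)).hom (EtCore.Hpull (π T) M q ξT) = 0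
  rw [hzero, map_zero]

end Groth.Agent.ArtinVan
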